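/-
Certificate data for the Leech lattice modulo two: a sextet, a spanning chain of vectors, expansions.
-/
import Mathlib.Init
set_option autoImplicit false

namespace Cfsg.Agent.LeechMod

/-- The tetrad number of each of the 24 points. -/
def tetList : List Nat := [0, 0, 0, 1, 5, 1, 4, 4, 2, 3, 3, 2, 2, 5, 1, 3, 5, 1, 2, 4, 3, 4, 5, 0]

/-- Chain of vectors: previous index, generator number, coordinates. -/
def chain : List (Nat × Nat × List Int) :=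
  [ (0, 0, [0, 0, 0, 0, 0, 0, 0, 0, 0, 0, 0, 0, 0, 0, 0, 0, 0, 0, 0, 0, 0, 0, 0, 8]),
    (0, 0, [-4, -4, -4, 0, 0, 0, 0, 0, 0, 0, 0, 0, 0, 0, 0, 0, 0, 0, 0, 0, 0, 0, 0, 4]),
    (1, 1, [-4, -4, 0, 0, 0, 0, 0, 0, 0, 0, 0, 0, 0, 0, 0, 0, 0, 0, 0, 0, 0, 0, -4, 4]),
    (2, 0, [-2, -2, 2, 0, -2, 0, 0, 0, 0, 0, 0, 0, 0, -2, 0, 0, -2, 0, 0, 0, 0, 0, 2, 6]),
    (2, 1, [-4, 0, 0, 0, 0, 0, 0, 0, 0, 0, 0, 0, 0, 0, 0, 0, 0, 0, 0, 0, 0, -4, -4, 4]),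
    (3, 1, [-2, 2, 0, -2, 0, 0, 0, 0, 0, 0, 0, 0, -2, 0, 0, -2, 0, 0, 0, 0, 0, 2, -2, 6]),
    (3, 2, [2, -2, -2, 0, 2, 0, 0, 0, 0, 0, 0, 0, 0, -2, 0, 0, -2, 0, 0, 0, 0, 0, 2, -6]),
    (3, 3, [2, 2, -2, 0, -2, 0, 0, 0, 0, 0, 0, 0, 0, -2, 0, 0, -2, 0, 0, 0, 0, 0, -2, 6]),
    (3, 5, [-2, -2, -2, 0, 2, 0, 0, 0, 0, 0, 0, 0, 0, -2, 0, 0, -2, 0, 0, 0, 0, 0, 2, 6]),
    (3, 9, [2, 2, 2, 0, 2, 0, 0, 0, 0, 0, 0, 0, 0, -2, 0, 0, 2, 0, 0, 0, 0, 0, 2, 6]),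
    (4, 0, [-4, 0, 0, 0, -2, 0, -2, -2, 0, 0, 0, 0, 0, -2, 0, 0, -2, 0, 0, -2, 0, 2, 2, 4]),
    (4, 1, [0, 0, 0, 0, 0, 0, 0, 0, 0, 0, 0, 0, 0, 0, 0, 0, 0, 0, 0, 0, -4, -4, -4, 4]),
    (5, 0, [-5, -1, -3, 1, -1, -1, 1, 1, -1, -1, -1, -1, 1, -1, -1, 1, -1, -1, -1, 1, -1, -1, 1, 3]),
    (5, 1, [2, 0, -2, 0, 0, 0, 0, 0, 0, 0, 0, -2, 0, 0, -2, 0, 0, 0, 0, 0, 2, -2, -2, 6]),
    (5, 3, [2, -2, 0, 2, 0, 0, 0, 0, 0, 0, 0, 0, -2, 0, 0, -2, 0, 0, 0, 0, 0, 2, 2, 6]),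
    (5, 10, [-2, -2, 0, -2, 0, 0, 0, 0, 0, 0, 0, 0, -2, 0, 0, 2, 0, 0, 0, 0, 0, 2, -2, 6]),
    (10, 1, [0, 0, 0, -2, 0, -2, -2, 0, 0, 0, 0, 0, -2, 0, 0, -2, 0, 0, -2, 0, 2, 2, -4, 4]),
    (10, 5, [-4, 0, 0, 0, 2, 0, -2, 2, 0, 0, 0, 0, 0, -2, 0, 0, -2, 0, 0, -2, 0, 2, 2, 4]),
    (11, 0, [-2, -2, -2, 0, -2, 0, -2, -2, 0, -2, -2, 0, 0, -2, 0, -2, -2, 0, 0, -2, 2, 2, 2, 2]),
    (12, 2, [5, -1, 3, 1, 1, 1, -1, 1, -1, -1, 1, 1, 1, -1, -1, 1, -1, -1, -1, 1, -1, -1, 1, -3]),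
    (12, 3, [5, 1, 3, -1, -1, -1, -1, 1, -1, 1, -1, 1, 1, -1, -1, 1, -1, -1, -1, 1, -1, -1, -1, 3]),
    (12, 4, [-5, -1, -3, -1, -1, 1, -1, 1, 1, 1, 1, 1, 1, -1, -1, 1, -1, -1, -1, 1, -1, 1, 1, 3]),
    (12, 5, [-5, -1, 3, 1, 1, 1, 1, -1, 1, 1, 1, -1, 1, -1, -1, 1, -1, -1, -1, 1, 1, -1, 1, 3]),
    (12, 9, [5, 1, -3, 1, 1, -1, 1, 1, 1, 1, 1, 1, 1, -1, -1, 1, 1, -1, -1, 1, -1, -1, 1, 3])]

/-- Expansions of the 59 lattice generators by the chain, as bit masks. -/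
def combMasks : List Nat := [320, 321, 462, 463, 140, 141, 16421, 16420, 388, 389, 51289, 51288, 35758, 35759, 132485, 132484, 150841, 150840, 134287, 134286, 164914, 164915, 182156, 182157, 49172, 49173, 527, 526, 183873, 183872, 33262, 33263, 770, 771, 149054, 149055, 19106, 19107, 167922, 167923, 2384, 2385, 474, 475, 138, 139, 5297, 7642515, 10131312, 7891119, 5163975, 8392705, 5320601, 5855500, 2639083, 4330761, 2153354, 1104781, 564002]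

/-- For each finite point: two octads meeting in it and the extra point, and an octad avoiding the extra point. -/
def pairTab : List (Nat × Nat × Nat) := [(9347075, 12599513, 1302533), (9347075, 14762146, 2605066), (10305542, 14688364, 1302533), (11100169, 8683614, 2605066), (13811730, 8978620, 6053905), (11952160, 8978620, 3719203), (15515712, 8593633, 6447171), (14254209, 10625178, 5709954), (11731203, 13148440, 4038912), (15073798, 9519665, 8077824), (16262146, 8619033, 7767041), (14919680, 9963547, 7145475), (13062145, 11538486, 4845570), (9347075, 14688364, 1302533), (10305542, 12599513, 1302533), (9347075, 9486564, 1302533), (10305542, 8593633, 1302533), (9347075, 10698836, 1302533), (9347075, 16056344, 2605066), (9347075, 8978620, 6053905), (10305542, 11575377, 1302533), (11100169, 15073798, 2605066), (13811730, 14688364, 6053905)]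

/-- An octad through the extra point avoiding the point zero. -/
def octNone : Nat := 10305542

end Cfsg.Agent.LeechMod
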