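/-
Generators and three kinds of automorphisms of the Leech lattice.
-/
import Cfsg.Agent.Lib.Leech.Basic
import Cfsg.Agent.Lib.LeechMod.Data
import Cfsg.Agent.S0433
set_option autoImplicit false

namespace Cfsg.Agent.LeechMod

open Cfsg Cfsg.Agent.Golay Cfsg.Agent.Leech

/-- The 24 points in order. -/
def allPts : List GolayPt := (List.range 24).map fun i => pt (Fin.ofNat 24 i)

theorem mem_allPts : ∀ p : GolayPt, p ∈ allPts := by decide

/-- A vector given by its list of coordinates. -/
def toVec (l : List ℤ) : GolayPt → ℤ := fun p => l.getD (idx p) 0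

/-- Boolean membership test. -/
def inLB (x : GolayPt → ℤ) : Bool :=
  allPts.all (fun p => (x p - x none % 2) % 2 == 0) &&
    ((∑ i, x i) - 4 * (x none % 2)) % 8 == 0 &&
      inCode (mkMask (fun k => ((x (pt (Fin.ofNat 24 k)) - x none % 2) / 2) % 2 == 1) 24)

theorem mem_of_inLB {x : GolayPt → ℤ} (h : inLB x = true) : x ∈ leechLattice := by
  simp only [inLB, Bool.and_eq_true, List.all_eq_true, beq_iff_eq] at h
  obtain ⟨⟨h1, h2⟩, h3⟩ := h
  refine mem_leech.2 ⟨x none % 2, fun i => Int.dvd_of_emod_eq_zero (h1 i (mem_allPts i)),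
    Int.dvd_of_emod_eq_zero h2, ?_⟩
  have hw : hword (x none % 2) x =
      ofMask (mkMask (fun k => ((x (pt (Fin.ofNat 24 k)) - x none % 2) / 2) % 2 == 1) 24) := by
    funext p
    have hp : pt (Fin.ofNat 24 (idx p)) = p := by
      rw [show Fin.ofNat 24 (idx p) = ⟨idx p, idx_lt p⟩ from Fin.ext (Nat.mod_eq_of_lt (idx_lt p))]
      exact pt_idx p
    simp only [hword, ofMask]
    rw [testBit_mkMask, decide_eq_true (idx_lt p), Bool.true_and, hp]
    generalize (x p - x none % 2) / 2 = a
    rcases Int.emod_two_eq_zero_or_one a with ha | ha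
    · simpa [ha, ZMod.intCast_zmod_eq_zero_iff_dvd] using Int.dvd_of_emod_eq_zero ha
    · simp only [ha]
      obtain ⟨b, rfl⟩ : ∃ b, a = 1 + 2 * b := ⟨a / 2, by omega⟩
      simp [show (2 : ZMod 2) = 0 from rfl]
  rw [hw]
  exact ofMask_mem_golayCode h3

/-- The vector 4 at the extra point. -/
def e4 (p : GolayPt) : GolayPt → ℤ := fun i => if i = p then 4 else 0

/-- The odd generator. -/
def oddVec : GolayPt → ℤ := fun i => if i = none then -3 else 1

/-- The vector 2 on the support of a mask. -/
def octVec (b : ℕ) : GolayPt → ℤ := fun i => if b.testBit (idx i) then 2 else 0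

/-- Twelve octads spanning the code. -/
def octBase : List ℕ :=
  [5279, 10558, 18147, 36294, 69395, 133817, 262637, 525274, 1050548, 2101096, 4196943, 8391797]

/-- Fifty-nine generators of the lattice. -/
def genList : List (GolayPt → ℤ) :=
  ((List.range 23).flatMap fun i =>
      [e4 none + e4 (pt (Fin.ofNat 24 i)), e4 none - e4 (pt (Fin.ofNat 24 i))]) ++
    oddVec :: octBase.map octVec

theorem genList_mem : genList.all inLB = true := by decide +kernel

theorem mem_of_genList {x : GolayPt → ℤ} (h : x ∈ genList) : x ∈ leechLattice :=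
  mem_of_inLB (List.all_eq_true.1 genList_mem x h)

theorem leech_le {M : AddSubgroup (GolayPt → ℤ)} (h : ∀ g ∈ genList, g ∈ M) : leechLattice ≤ M := by
  have hpm : ∀ p, p ≠ none → e4 none + e4 p ∈ M ∧ e4 none - e4 p ∈ M := by
    intro p hp
    have hlt : idx p < 23 := by revert hp; revert p; decide
    have hpt : pt (Fin.ofNat 24 (idx p)) = p := by
      rw [show Fin.ofNat 24 (idx p) = ⟨idx p, idx_lt p⟩ from Fin.ext (Nat.mod_eq_of_lt (idx_lt p))]
      exact pt_idx p
    constructor <;>
      refine h _ (List.mem_append_left _ (List.mem_flatMap.2 ⟨idx p, List.mem_range.2 hlt, ?_⟩)) <;>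
      rw [hpt] <;> simp
  have hvM : oddVec ∈ M := h _ (List.mem_append_right _ List.mem_cons_self)
  have hv : InLeech 1 oddVec := ⟨fun i => by simp only [oddVec]; split_ifs <;> norm_num, by decide +kernel, by
    convert Cfsg.golayCode.zero_mem
    funext i
    simp only [hword, oddVec]
    split_ifs <;> rfl⟩
  let W : Submodule (ZMod 2) (GolayPt → ZMod 2) :=
    { carrier := {w | ∃ y ∈ M, InLeech 0 y ∧ hword 0 y = w}
      zero_mem' := ⟨0, M.zero_mem, inLeech_zero, by funext i; simp [hword]⟩
      add_mem' := by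
        rintro a b ⟨y, hy, hyL, rfl⟩ ⟨z, hz, hzL, rfl⟩
        refine ⟨y + z, M.add_mem hy hz, by simpa using hyL.add hzL, ?_⟩
        funext i
        have h1 := hyL.1 i
        have h2 := hzL.1 i
        simp only [hword, Pi.add_apply, ← Int.cast_add]
        congr 1
        omega
      smul_mem' := by
        rintro c a ⟨y, hy, hyL, rfl⟩
        rcases zmod2_cases c with rfl | rfl
        · exact ⟨0, M.zero_mem, inLeech_zero, by funext i; simp [hword]⟩
        · exact ⟨y, hy, hyL, by simp⟩ }
  have hW : ∀ b ∈ octBase, ofMask b ∈ W := by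
    intro b hb
    obtain ⟨hc, h8⟩ := (show inCode b = true ∧ popCount b 24 = 8 by
      have hall : octBase.all (fun b => inCode b && Nat.beq (popCount b 24) 8) = true := by decide +kernel
      simpa using List.all_eq_true.1 hall b hb)
    have hh : hword 0 (octVec b) = ofMask b := by
      funext i; simp only [hword, octVec, ofMask]; cases b.testBit (idx i) <;> rfl
    have hs : ∑ i, octVec b i = 16 := by
      simp only [octVec]
      rw [Finset.sum_ite, Finset.sum_const, Finset.sum_const_zero, add_zero, nsmul_eq_mul]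
      have : (Finset.univ.filter fun i => b.testBit (idx i) = true).card = 8 := by
        rw [← h8, ← card_maskSet]; rfl
      rw [this]; norm_num
    exact ⟨octVec b, h _ (List.mem_append_right _ (List.mem_cons_of_mem _ (List.mem_map_of_mem hb))),
      ⟨fun i => by simp only [octVec]; split_ifs <;> norm_num, by rw [hs]; norm_num,
        by rw [hh]; exact ofMask_mem_golayCode hc⟩, hh⟩
  intro x hx
  obtain ⟨m, hm01, hm⟩ := exists_parity hx
  obtain ⟨x1, hx1, hx1e⟩ : ∃ x1, InLeech 0 x1 ∧ x - x1 ∈ M := by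
    rcases hm01 with rfl | rfl
    · exact ⟨x, hm, by rw [sub_self]; exact M.zero_mem⟩
    · exact ⟨x - oddVec, by simpa [sub_eq_add_neg] using hm.add hv.neg, by rw [sub_sub_cancel]; exact hvM⟩
  obtain ⟨a, ha, hae⟩ := mem_golayCode.1 hx1.2.2
  obtain ⟨y, hyM, hyL, hyh⟩ : ofMask a ∈ W :=
    spanList_mem_submodule _ (fun b hb => by
      have hspan : (gBasis.map fun u => u.2).all (fun b => memB b (spanList octBase)) = true := by decide +kernel
      exact spanList_mem_submodule _ hW b (memB_spec (List.all_eq_true.1 hspan b hb))) a ha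
  have hq : ∀ i, ∃ q, (x1 - y) i = 4 * q := by
    intro i
    obtain ⟨s, hs⟩ := hx1.1 i
    obtain ⟨t, ht⟩ := hyL.1 i
    have h := congrFun (hyh.trans hae) i
    simp only [hword, show (y i - 0) / 2 = t by omega, show (x1 i - 0) / 2 = s by omega,
      ZMod.intCast_eq_intCast_iff'] at h
    exact ⟨(s - t) / 2, by simp only [Pi.sub_apply]; omega⟩
  choose q hq using hq
  obtain ⟨r, hr⟩ : (2 : ℤ) ∣ ∑ i, q i := by
    have h1 := hx1.2.1; have h2 := hyL.2.1
    have : ∑ i, x1 i - ∑ i, y i = 4 * ∑ i, q i := by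
      rw [← Finset.sum_sub_distrib, Finset.mul_sum]; exact Finset.sum_congr rfl fun i _ => hq i
    omega
  have hrest : x1 - y ∈ M := by
    have heq : x1 - y = (∑ i, q i • -(e4 none - e4 i)) +
        r • ((e4 none + e4 (some 0)) + (e4 none - e4 (some 0))) := by
      funext j
      simp only [Pi.add_apply, Finset.sum_apply, Pi.smul_apply, Pi.sub_apply, Pi.neg_apply, smul_eq_mul,
        mul_neg, mul_sub, neg_sub, Finset.sum_sub_distrib, ← Finset.sum_mul]
      have h1 : ∑ i, q i * e4 i j = 4 * q j := by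
        simp only [e4, mul_ite, mul_zero, Finset.sum_ite_eq, Finset.mem_univ, if_true]
        ring
      have h2 := hq j
      simp only [Pi.sub_apply] at h2
      rw [h1, h2, hr]; ring
    rw [heq]
    refine M.add_mem (M.sum_mem fun i _ => ?_)
      (M.zsmul_mem (M.add_mem (hpm _ (by simp)).1 (hpm _ (by simp)).2) r)
    rcases eq_or_ne i none with rfl | hi
    · rw [sub_self, neg_zero, smul_zero]; exact M.zero_mem
    · exact M.zsmul_mem (M.neg_mem (hpm i hi).2) _
  have : x = (x - x1) + ((x1 - y) + y) := by abel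
  rw [this]
  exact M.add_mem hx1e (M.add_mem hrest hyM)

/-! ### The automorphisms -/

/-- An automorphism from a map, its inverse and their properties on the lattice. -/
def mkAut (T T' : (GolayPt → ℤ) → GolayPt → ℤ)
    (hadd : ∀ x ∈ leechLattice, ∀ y ∈ leechLattice, T (x + y) = T x + T y)
    (hT : ∀ x ∈ leechLattice, T x ∈ leechLattice) (hT' : ∀ x ∈ leechLattice, T' x ∈ leechLattice)
    (h1 : ∀ x ∈ leechLattice, T' (T x) = x) (h2 : ∀ x ∈ leechLattice, T (T' x) = x)
    (hn : ∀ x ∈ leechLattice, sqNorm (T x) = sqNorm x) : Co0 :=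
  ⟨⟨fun v => ⟨T v, hT v v.2⟩, fun v => ⟨T' v, hT' v v.2⟩, fun v => Subtype.ext (h1 v v.2),
      fun v => Subtype.ext (h2 v v.2)⟩,
    fun v w => Subtype.ext (hadd v v.2 w w.2), fun v => hn v v.2⟩

/-- The lattice vectors sent into the lattice by a map additive on it. -/
def stableSub (T : (GolayPt → ℤ) → GolayPt → ℤ)
    (hadd : ∀ x ∈ leechLattice, ∀ y ∈ leechLattice, T (x + y) = T x + T y) : AddSubgroup (GolayPt → ℤ) where
  carrier := {x | x ∈ leechLattice ∧ T x ∈ leechLattice}
  zero_mem' := by
    refine ⟨leechLattice.zero_mem, ?_⟩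
    have h := hadd 0 leechLattice.zero_mem 0 leechLattice.zero_mem
    rw [add_zero, left_eq_add] at h
    rw [h]; exact leechLattice.zero_mem
  add_mem' {x y} hx hy := ⟨leechLattice.add_mem hx.1 hy.1, by
    rw [hadd x hx.1 y hy.1]; exact leechLattice.add_mem hx.2 hy.2⟩
  neg_mem' {x} hx := ⟨leechLattice.neg_mem hx.1, by
    have h0 := hadd 0 leechLattice.zero_mem 0 leechLattice.zero_mem
    rw [add_zero, left_eq_add] at h0
    have h := hadd x hx.1 (-x) (leechLattice.neg_mem hx.1)
    rw [add_neg_cancel, h0] at h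
    rw [show T (-x) = -T x from eq_neg_of_add_eq_zero_right h.symm]
    exact leechLattice.neg_mem hx.2⟩

theorem map_mem {T : (GolayPt → ℤ) → GolayPt → ℤ}
    (hadd : ∀ x ∈ leechLattice, ∀ y ∈ leechLattice, T (x + y) = T x + T y)
    (hg : genList.all (fun g => inLB (T g)) = true) {x : GolayPt → ℤ} (hx : x ∈ leechLattice) :
    T x ∈ leechLattice :=
  (leech_le (M := stableSub T hadd)
    (fun g hg' => ⟨mem_of_genList hg', mem_of_inLB (List.all_eq_true.1 hg g hg')⟩) hx).2

/-- Sign change on the support of a mask. -/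
def epsMap (b : ℕ) (x : GolayPt → ℤ) : GolayPt → ℤ := fun i => if b.testBit (idx i) then -x i else x i

theorem epsMap_mem {b : ℕ} (hb : inCode b = true) {x : GolayPt → ℤ} (hx : x ∈ leechLattice) :
    epsMap b x ∈ leechLattice := by
  have h := Cfsg.Agent.S0433.result (maskSet b)
    ⟨ofMask b, ofMask_mem_golayCode hb, support_ofMask b⟩ x hx
  convert! h using 1
  funext i
  simp [epsMap, mem_maskSet]

/-- The sign change automorphism. -/
def epsAut (b : ℕ) (hb : inCode b = true) : Co0 :=
  mkAut (epsMap b) (epsMap b)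
    (fun x _ y _ => funext fun i => by simp only [epsMap, Pi.add_apply]; split_ifs <;> ring)
    (fun _ hx => epsMap_mem hb hx) (fun _ hx => epsMap_mem hb hx)
    (fun x _ => funext fun i => by simp only [epsMap]; split_ifs <;> ring)
    (fun x _ => funext fun i => by simp only [epsMap]; split_ifs <;> ring)
    (fun x _ => Finset.sum_congr rfl fun i _ => by simp only [epsMap]; split_ifs <;> ring)

/-- The translation on the finite points. -/
def shiftPt (k : ZMod 23) : GolayPt → GolayPt := Option.map (· + k)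

/-- The translation of the coordinates. -/
def shiftMap (k : ZMod 23) (x : GolayPt → ℤ) : GolayPt → ℤ := fun i => x (shiftPt k i)

theorem shiftMap_add (k : ZMod 23) (x y : GolayPt → ℤ) : shiftMap k (x + y) = shiftMap k x + shiftMap k y := rfl

theorem shift_gens : genList.all (fun g => inLB (shiftMap 1 g)) = true ∧
    genList.all (fun g => inLB (shiftMap (-1) g)) = true := by decide +kernel

/-- The translation automorphism. -/
def shiftAut : Co0 :=
  mkAut (shiftMap 1) (shiftMap (-1)) (fun x _ y _ => shiftMap_add 1 x y)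
    (fun _ hx => map_mem (fun x _ y _ => shiftMap_add 1 x y) shift_gens.1 hx)
    (fun _ hx => map_mem (fun x _ y _ => shiftMap_add (-1) x y) shift_gens.2 hx)
    (fun x _ => funext fun i => by cases i <;> simp [shiftMap, shiftPt])
    (fun x _ => funext fun i => by cases i <;> simp [shiftMap, shiftPt])
    (fun x _ => Equiv.sum_comp
      (⟨shiftPt 1, shiftPt (-1), fun i => by cases i <;> simp [shiftPt],
        fun i => by cases i <;> simp [shiftPt]⟩ : Equiv.Perm GolayPt) (fun i => x i ^ 2))

/-- The tetrad of a point. -/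
def tet (p : GolayPt) : Fin 6 := Fin.ofNat 6 (tetList.getD (idx p) 0)

/-- The sum of the coordinates in a tetrad. -/
def tetSum (x : GolayPt → ℤ) (k : Fin 6) : ℤ := ∑ i ∈ Finset.univ.filter (fun i => tet i = k), x i

/-- The sign attached to a tetrad. -/
def tetSign (k : Fin 6) : ℤ := if k = 0 then -1 else 1

/-- The extra map. -/
def xiMap (x : GolayPt → ℤ) : GolayPt → ℤ := fun i => tetSign (tet i) * (tetSum x (tet i) / 2 - x i)

theorem card_tet : ∀ k : Fin 6, (Finset.univ.filter (fun i => tet i = k)).card = 4 := by decide +kernel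

theorem two_dvd_tetSum {x : GolayPt → ℤ} (hx : x ∈ leechLattice) (k : Fin 6) : 2 ∣ tetSum x k := by
  obtain ⟨m, hm⟩ := mem_leech.1 hx
  choose q hq using hm.1
  refine ⟨2 * m + ∑ i ∈ Finset.univ.filter (fun i => tet i = k), q i, ?_⟩
  rw [tetSum, Finset.sum_congr rfl (fun i _ => show x i = m + 2 * q i by have := hq i; omega),
    Finset.sum_add_distrib, Finset.sum_const, card_tet, ← Finset.mul_sum]
  simp; ring

theorem xiMap_add {x y : GolayPt → ℤ} (hx : x ∈ leechLattice) (hy : y ∈ leechLattice) :
    xiMap (x + y) = xiMap x + xiMap y := by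
  funext i
  have h : tetSum (x + y) (tet i) = tetSum x (tet i) + tetSum y (tet i) := Finset.sum_add_distrib
  simp only [xiMap, Pi.add_apply, h, Int.add_ediv_of_dvd_left (two_dvd_tetSum hx _)]
  ring

theorem tetSum_xiMap {x : GolayPt → ℤ} (hx : x ∈ leechLattice) (k : Fin 6) :
    tetSum (xiMap x) k = tetSign k * tetSum x k := by
  obtain ⟨h, hh⟩ := two_dvd_tetSum hx k
  have : tetSum (xiMap x) k = ∑ i ∈ Finset.univ.filter (fun i => tet i = k), tetSign k * (h - x i) :=
    Finset.sum_congr rfl fun i hi => by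
      rw [Finset.mem_filter] at hi
      simp only [xiMap, hi.2, hh]
      rw [Int.mul_ediv_cancel_left _ two_ne_zero]
  rw [this, ← Finset.mul_sum, Finset.sum_sub_distrib, Finset.sum_const, card_tet]
  congr 1
  show _ - tetSum x k = _
  rw [hh]; simp; ring

theorem xiMap_xiMap {x : GolayPt → ℤ} (hx : x ∈ leechLattice) : xiMap (xiMap x) = x := by
  funext i
  obtain ⟨h, hh⟩ := two_dvd_tetSum hx (tet i)
  show tetSign (tet i) * (tetSum (xiMap x) (tet i) / 2 - xiMap x i) = x i
  rw [tetSum_xiMap hx, hh, mul_left_comm, Int.mul_ediv_cancel_left _ two_ne_zero, xiMap, hh,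
    Int.mul_ediv_cancel_left _ two_ne_zero]
  have : tetSign (tet i) * tetSign (tet i) = 1 := by unfold tetSign; split_ifs <;> rfl
  linear_combination (x i) * this

theorem xi_norm {x : GolayPt → ℤ} (hx : x ∈ leechLattice) : sqNorm (xiMap x) = sqNorm x := by
  rw [sqNorm, sqNorm, ← Finset.sum_fiberwise Finset.univ tet, ← Finset.sum_fiberwise Finset.univ tet]
  refine Finset.sum_congr rfl fun k _ => ?_
  obtain ⟨h, hh⟩ := two_dvd_tetSum hx k
  have : ∀ i ∈ Finset.univ.filter (fun i => tet i = k), xiMap x i ^ 2 = x i ^ 2 + h * (h - 2 * x i) := by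
    intro i hi
    rw [Finset.mem_filter] at hi
    rw [xiMap, hi.2, hh, Int.mul_ediv_cancel_left _ two_ne_zero, mul_pow,
      show tetSign k ^ 2 = 1 by unfold tetSign; split_ifs <;> rfl]
    ring
  rw [Finset.sum_congr rfl this, Finset.sum_add_distrib, ← Finset.mul_sum, Finset.sum_sub_distrib,
    Finset.sum_const, card_tet, ← Finset.mul_sum]
  have : ∑ i ∈ Finset.univ.filter (fun i => tet i = k), x i = 2 * h := hh
  rw [this]; simp only [nsmul_eq_mul, Nat.cast_ofNat]; ring

theorem xi_gens : genList.all (fun g => inLB (xiMap g)) = true := by decide +kernel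

theorem xiMap_mem {x : GolayPt → ℤ} (hx : x ∈ leechLattice) : xiMap x ∈ leechLattice :=
  map_mem (fun _ hx _ hy => xiMap_add hx hy) xi_gens hx

/-- The automorphism outside the monomial group. -/
def xiAut : Co0 :=
  mkAut xiMap xiMap (fun _ hx _ hy => xiMap_add hx hy) (fun _ hx => xiMap_mem hx) (fun _ hx => xiMap_mem hx)
    (fun _ hx => xiMap_xiMap hx) (fun _ hx => xiMap_xiMap hx) (fun _ hx => xi_norm hx)

end Cfsg.Agent.LeechMod
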