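/-
The Leech lattice modulo two is irreducible and faithful modulo the sign.
-/
import Cfsg.Agent.Lib.LeechMod.Symm
import Cfsg.Agent.Lib.Leech.Classes
set_option autoImplicit false

namespace Cfsg.Agent.LeechMod

open Cfsg Cfsg.Agent.Golay Cfsg.Agent.Leech

/-! ### The dual of the code -/

/-- The code word with given twelve lower coordinates. -/
def complete (a : ℕ) : ℕ :=
  gBasis.foldl (fun acc v => bif popCount (v.2 &&& a) 24 % 2 == 1 then acc ||| (1 <<< v.1) else acc) a

theorem complete_ok :
    (List.range 4096).all (fun a => inCode (complete a) && Nat.beq (complete a % 4096) a) = true := by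
  decide +kernel

theorem pivot_ok : ∀ p : GolayPt,
    12 ≤ idx p → ∃ v ∈ gBasis, v.1 = idx p ∧ v.2.testBit (idx p) = true ∧
      ∀ r : GolayPt, 12 ≤ idx r → v.2.testBit (idx r) = true → r = p := by
  decide +kernel

theorem gBasis_inCode : ∀ v ∈ gBasis, inCode v.2 = true := by decide +kernel

/-- The code contains its orthogonal space. -/
theorem mem_code_of_orth {w : GolayPt → ZMod 2}
    (h : ∀ v ∈ gBasis, ∑ p, ofMask v.2 p * w p = 0) : w ∈ golayCode := by
  set m := toMask (support₂ w)
  have hc := List.all_eq_true.1 complete_ok (m % 4096) (List.mem_range.2 (Nat.mod_lt _ (by norm_num)))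
  simp only [Bool.and_eq_true, Nat.beq_eq] at hc
  set w' := ofMask (complete (m % 4096)) with hw'
  have hw'c : w' ∈ golayCode := ofMask_mem_golayCode hc.1
  have hlow : ∀ r, idx r < 12 → w r = w' r := by
    intro r hr
    conv_lhs => rw [← ofMask_toMask w]
    have h1 : (m % 2 ^ 12).testBit (idx r) = m.testBit (idx r) := by rw [Nat.testBit_mod_two_pow]; simp [hr]
    have h2 : (complete (m % 4096) % 2 ^ 12).testBit (idx r) = (complete (m % 4096)).testBit (idx r) := by
      rw [Nat.testBit_mod_two_pow]; simp [hr]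
    simp only [ofMask, hw']
    rw [← h2, show (2 : ℕ) ^ 12 = 4096 from rfl, hc.2, show (4096 : ℕ) = 2 ^ 12 from rfl, h1]
  suffices heq : w = w' by rw [heq]; exact hw'c
  funext r
  by_cases hr : idx r < 12
  · exact hlow r hr
  obtain ⟨v, hv, -, hvr, huniq⟩ := pivot_ok r (by omega)
  have h1 : ∑ p, ofMask v.2 p * (w p - w' p) = 0 := by
    simp only [mul_sub, Finset.sum_sub_distrib, h v hv,
      self_orthogonal (ofMask_mem_golayCode (gBasis_inCode v hv)) hw'c, sub_zero]
  rw [Finset.sum_eq_single r (fun p _ hp => ?_) (by simp)] at h1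
  · simp only [ofMask, hvr, if_true, one_mul] at h1
    exact sub_eq_zero.1 h1
  · by_cases hp12 : idx p < 12
    · rw [hlow p hp12, sub_self, mul_zero]
    · cases hb : v.2.testBit (idx p)
      · simp [ofMask, hb]
      · exact absurd (huniq p (by omega) hb) hp

/-! ### The fixed class of the sign changes -/

/-- Twice a lattice vector. -/
def IsTwo (x : GolayPt → ℤ) : Prop := ∃ w ∈ leechLattice, x = (2 : ℤ) • w

theorem IsTwo.mem {x : GolayPt → ℤ} (h : IsTwo x) : x ∈ leechLattice := by
  obtain ⟨w, hw, rfl⟩ := h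
  exact leechLattice.zsmul_mem hw 2

theorem isTwo_zero : IsTwo 0 := ⟨0, leechLattice.zero_mem, (smul_zero _).symm⟩

theorem IsTwo.add {x y : GolayPt → ℤ} (hx : IsTwo x) (hy : IsTwo y) : IsTwo (x + y) := by
  obtain ⟨u, hu, rfl⟩ := hx
  obtain ⟨v, hv, rfl⟩ := hy
  exact ⟨u + v, leechLattice.add_mem hu hv, (smul_add _ _ _).symm⟩

theorem IsTwo.neg {x : GolayPt → ℤ} (hx : IsTwo x) : IsTwo (-x) := by
  obtain ⟨u, hu, rfl⟩ := hx
  exact ⟨-u, leechLattice.neg_mem hu, (smul_neg _ _).symm⟩

/-- Eight times the extra coordinate vector. -/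
def T8 : GolayPt → ℤ := fun i => if i = none then 8 else 0

theorem T8_inLB : inLB T8 = true := by decide +kernel

theorem T8_mem : T8 ∈ leechLattice := mem_of_inLB T8_inLB

theorem oddVec_mem : oddVec ∈ leechLattice := mem_of_inLB (by decide +kernel)

/-- The restriction to the support of a mask. -/
def restr (b : ℕ) (x : GolayPt → ℤ) : GolayPt → ℤ := fun i => if b.testBit (idx i) then x i else 0

theorem sub_epsMap (b : ℕ) (x : GolayPt → ℤ) : x - epsMap b x = (2 : ℤ) • restr b x := by
  funext i
  simp only [restr, epsMap, Pi.sub_apply, Pi.smul_apply, smul_eq_mul]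
  split_ifs <;> ring

theorem not_trivial_words : codeList.all (fun a => Nat.beq a 0 || Nat.beq a 16777215 ||
    gBasis.any (fun v => !inCode (a &&& v.2))) = true := by decide +kernel

theorem restr_odd_inLB : gBasis.all (fun v => inLB (restr v.2 ((2 : ℤ) • oddVec))) = true := by decide +kernel

theorem even_of_mem {x : GolayPt → ℤ} (hx : x ∈ leechLattice) (h : ∃ i, 2 ∣ x i) :
    InLeech 0 x := by
  obtain ⟨m, hm⟩ := mem_leech.1 hx
  obtain ⟨i, hi⟩ := h
  obtain ⟨k, hk⟩ : 2 ∣ m := by have := hm.1 i; omega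
  have h' := hm.shift (-k)
  rwa [show m + 2 * -k = 0 by omega] at h'

theorem fixed_class {x : GolayPt → ℤ} (hx : x ∈ leechLattice)
    (h : ∀ v ∈ gBasis, restr v.2 x ∈ leechLattice) : IsTwo x ∨ IsTwo (x - T8) := by
  -- all coordinates are even
  have hb0 : (12, 5279) ∈ gBasis := by simp [gBasis]
  have heven : InLeech 0 x := by
    refine even_of_mem hx ⟨pt (Fin.ofNat 24 0), ?_⟩
    have h0 := (even_of_mem (h _ hb0) ⟨pt (Fin.ofNat 24 5), ?_⟩).1 (pt (Fin.ofNat 24 0))
    · have e : restr 5279 x (pt (Fin.ofNat 24 0)) = x (pt (Fin.ofNat 24 0)) := if_pos (by decide +kernel)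
      rwa [e, sub_zero] at h0
    · rw [show restr 5279 x (pt (Fin.ofNat 24 5)) = 0 from if_neg (by decide +kernel)]
      exact dvd_zero 2
  choose u hu using heven.1
  obtain ⟨a, ha, hae⟩ := mem_golayCode.1 heven.2.2
  have hres : ∀ v ∈ gBasis, InLeech 0 (restr v.2 x) := fun v hv => even_of_mem (h v hv) ⟨none, by
    simp only [restr]
    split_ifs
    · exact ⟨u none, by have := hu none; omega⟩
    · exact dvd_zero 2⟩
  have ha01 : a = 0 ∨ a = 16777215 := by
    have hc := List.all_eq_true.1 not_trivial_words a ha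
    simp only [Bool.or_eq_true, Nat.beq_eq, List.any_eq_true, Bool.not_eq_true'] at hc
    rcases hc with (hc | hc) | ⟨v, hv, hbad⟩
    · exact Or.inl hc
    · exact Or.inr hc
    · exfalso
      have hw : hword 0 (restr v.2 x) = ofMask (a &&& v.2) := by
        funext p
        have h1 := congrFun hae p
        simp only [hword, ofMask, restr, Nat.testBit_and] at h1 ⊢
        cases v.2.testBit (idx p)
        · simp
        · simp [h1]
      have hm := (hres v hv).2.2
      rw [hw, ofMask_mem_iff (Nat.and_lt_two_pow _ (lt_of_mem_codeList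
        (inCode_iff.1 (gBasis_inCode v hv))))] at hm
      rw [hm] at hbad
      exact Bool.noConfusion hbad
  -- reduce to coordinates divisible by four
  obtain ⟨c, x', hx', hxc, hx'h, z, hz⟩ : ∃ c : ℤ, ∃ x', x' ∈ leechLattice ∧ x = x' + (2 : ℤ) • (c • oddVec) ∧
      (∀ v ∈ gBasis, restr v.2 x' ∈ leechLattice) ∧ ∃ z : GolayPt → ℤ, ∀ i, x' i = 4 * z i := by
    have hbit : ∀ i, (u i : ZMod 2) = ofMask a i := fun i => by
      have h1 := congrFun hae i
      simp only [hword, show (x i - 0) / 2 = u i by have := hu i; omega] at h1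
      exact h1.symm
    rcases ha01 with rfl | rfl
    · refine ⟨0, x, hx, by simp, h, ?_⟩
      have : ∀ i, ∃ q, x i = 4 * q := fun i => by
        have := hbit i
        rw [ofMask_zero, Pi.zero_apply, ZMod.intCast_zmod_eq_zero_iff_dvd] at this
        obtain ⟨q, hq⟩ := this
        exact ⟨q, by have := hu i; push_cast at hq; omega⟩
      choose q hq using this
      exact ⟨q, hq⟩
    · refine ⟨1, x - (2 : ℤ) • oddVec, leechLattice.sub_mem hx (leechLattice.zsmul_mem oddVec_mem 2),
        by simp, fun v hv => ?_, ?_⟩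
      · have : restr v.2 (x - (2 : ℤ) • oddVec) = restr v.2 x - restr v.2 ((2 : ℤ) • oddVec) := by
          funext i; simp only [restr, Pi.sub_apply]; split_ifs <;> simp
        rw [this]
        exact leechLattice.sub_mem (h v hv) (mem_of_inLB (List.all_eq_true.1 restr_odd_inLB v hv))
      · have : ∀ i, ∃ q, (x - (2 : ℤ) • oddVec) i = 4 * q := fun i => by
          have := hbit i
          rw [← one_eq, Pi.one_apply, show (1 : ZMod 2) = ((1 : ℤ) : ZMod 2) by norm_num,
            ZMod.intCast_eq_intCast_iff'] at this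
          simp only [Pi.sub_apply, Pi.smul_apply, smul_eq_mul, oddVec]
          have := hu i
          split_ifs
          · exact ⟨(u i + 3) / 2, by push_cast at *; omega⟩
          · exact ⟨(u i - 1) / 2, by push_cast at *; omega⟩
        choose q hq using this
        exact ⟨q, hq⟩
  have hx'0 : InLeech 0 x' := even_of_mem hx' ⟨none, 2 * z none, by rw [hz]; ring⟩
  obtain ⟨s, hs⟩ : 2 ∣ ∑ i, z i := by
    have := hx'0.2.1
    rw [Finset.sum_congr rfl (fun i _ => hz i), ← Finset.mul_sum] at this
    omega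
  have hzc : (fun i => (z i : ZMod 2)) ∈ golayCode := by
    refine mem_code_of_orth fun v hv => ?_
    have h8 := (even_of_mem (hx'h v hv) ⟨none, by
      simp only [restr]; split_ifs
      · exact ⟨2 * z none, by rw [hz]; ring⟩
      · exact dvd_zero 2⟩).2.1
    have e : ∀ p, restr v.2 x' p = 4 * (if v.2.testBit (idx p) then z p else 0) := fun p => by
      simp only [restr, hz]; split_ifs <;> simp
    rw [Finset.sum_congr rfl (fun i _ => e i), ← Finset.mul_sum] at h8
    have e2 : ∑ p, ofMask v.2 p * (z p : ZMod 2) =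
        ((∑ p, (if v.2.testBit (idx p) then z p else 0) : ℤ) : ZMod 2) := by
      rw [Int.cast_sum]
      refine Finset.sum_congr rfl fun p _ => ?_
      simp only [ofMask]; split_ifs <;> simp
    rw [e2, ZMod.intCast_zmod_eq_zero_iff_dvd]
    push_cast
    omega
  set y : GolayPt → ℤ := fun i => 2 * z i - if i = none then 4 * s else 0 with hy
  have hyL : y ∈ leechLattice := by
    refine mem_leech.2 ⟨0, fun i => ?_, ?_, ?_⟩
    · simp only [hy]; split_ifs <;> omega
    · simp only [hy]
      rw [Finset.sum_sub_distrib, ← Finset.mul_sum, Finset.sum_ite_eq', if_pos (Finset.mem_univ _), hs]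
      omega
    · convert hzc using 1
      funext i
      simp only [hword, hy]
      split_ifs
      · rw [show (2 * z i - 4 * s - 0) / 2 = z i - 2 * s by omega]
        push_cast
        simp [show (2 : ZMod 2) = 0 from rfl]
      · rw [show (2 * z i - 0 - 0) / 2 = z i by omega]
  have hx'y : x' = (2 : ℤ) • y + s • T8 := by
    funext i
    simp only [hy, T8, hz, Pi.add_apply, Pi.smul_apply, smul_eq_mul]
    split_ifs <;> ring
  have hyv : ∀ w ∈ leechLattice, IsTwo ((2 : ℤ) • w) := fun w hw => ⟨w, hw, rfl⟩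
  obtain ⟨r, rfl | rfl⟩ := Int.even_or_odd' s
  · left
    rw [hxc, hx'y, mul_smul]
    exact ((hyv _ hyL).add (hyv _ (leechLattice.zsmul_mem T8_mem r))).add
      (hyv _ (leechLattice.zsmul_mem oddVec_mem c))
  · right
    rw [hxc, hx'y]
    convert! ((hyv _ hyL).add (hyv _ (leechLattice.zsmul_mem T8_mem r))).add
      (hyv _ (leechLattice.zsmul_mem oddVec_mem c)) using 1
    module

/-! ### Invariant subgroups -/

theorem codeGen_inCode (k : ℕ) : inCode ((gBasis.map Prod.snd).getD k 0) = true := by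
  by_cases hk : k < (gBasis.map Prod.snd).length
  · rw [List.getD_eq_getElem _ _ hk]
    have hm := List.getElem_mem hk
    rw [List.mem_map] at hm
    obtain ⟨v, hv, hve⟩ := hm
    rw [← hve]
    exact gBasis_inCode v hv
  · rw [List.getD_eq_default _ _ (by omega)]
    decide +kernel

/-- The maps used in the certificate. -/
def genMap : ℕ → (GolayPt → ℤ) → GolayPt → ℤ
  | 0 => xiMap
  | 1 => shiftMap 1
  | k + 2 => epsMap ((gBasis.map Prod.snd).getD k 0)

/-- The vectors of the certificate. -/
def chainVec (j : ℕ) : GolayPt → ℤ := toVec (chain.getD j (0, 0, [])).2.2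

theorem chain_ok : (allPts.all (fun q => chainVec 0 q == T8 q) &&
    (List.range 24).all (fun j => Nat.beq j 0 || (Nat.blt (chain.getD j (0, 0, [])).1 j &&
      allPts.all (fun q => genMap (chain.getD j (0, 0, [])).2.1 (chainVec (chain.getD j (0, 0, [])).1) q ==
        chainVec j q)))) = true := by
  decide +kernel

/-- A combination of the vectors of the certificate. -/
def combVec (mask : ℕ) : GolayPt → ℤ := fun q =>
  ((List.range 24).map fun j => if mask.testBit j then chainVec j q else 0).sum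

/-- The check of one generator. -/
def combCheck (gm : (GolayPt → ℤ) × ℕ) : Bool :=
  allPts.all (fun q => (gm.1 q - combVec gm.2 q) % 2 == 0) &&
    inLB (fun q => (gm.1 q - combVec gm.2 q) / 2)

theorem comb_ok : (Nat.beq combMasks.length genList.length && (genList.zip combMasks).all combCheck) = true := by
  decide +kernel

theorem all_zip {α β : Type*} {l : List α} {m : List β} {f : α × β → Bool}
    (h : (Nat.beq m.length l.length && (l.zip m).all f) = true) (i : ℕ) (hi : i < l.length) :
    ∃ hi' : i < m.length, f (l[i], m[i]) = true := by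
  obtain ⟨h1, h2⟩ := (Bool.and_eq_true _ _).mp h
  have hi' : i < m.length := by rw [Nat.eq_of_beq_eq_true h1]; exact hi
  refine ⟨hi', List.all_eq_true.1 h2 (l[i], m[i]) ?_⟩
  rw [List.mem_iff_getElem]
  exact ⟨i, by rw [List.length_zip]; omega, by rw [List.getElem_zip]⟩

/-- Invariance of a set of vectors under the automorphism group. -/
def Invariant (M : AddSubgroup (GolayPt → ℤ)) : Prop :=
  ∀ g : ↥Co0, ∀ v : ↥leechLattice, (v : GolayPt → ℤ) ∈ M → ((g • v : ↥leechLattice) : GolayPt → ℤ) ∈ M

theorem genMap_mem {M : AddSubgroup (GolayPt → ℤ)} (hinv : Invariant M) (k : ℕ) {x : GolayPt → ℤ}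
    (hx : x ∈ leechLattice) (hxM : x ∈ M) : genMap k x ∈ M := by
  match k with
  | 0 => exact hinv xiAut ⟨x, hx⟩ hxM
  | 1 => exact hinv shiftAut ⟨x, hx⟩ hxM
  | k + 2 => exact hinv (epsAut _ (codeGen_inCode k)) ⟨x, hx⟩ hxM

theorem T8_mem_of {M : AddSubgroup (GolayPt → ℤ)} (h2 : ∀ v ∈ leechLattice, (2 : ℤ) • v ∈ M)
    (hle : M ≤ leechLattice) (hinv : Invariant M) {x : GolayPt → ℤ} (hx : x ∈ M) (hxt : ¬ IsTwo x) :
    T8 ∈ M := by
  suffices key : ∀ k, ∀ x ∈ M, ¬ IsTwo x → (∀ i, (2 : ℤ) ^ (4 - k) ∣ x i) → T8 ∈ M from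
    key 4 x hx hxt fun i => by simp
  intro k
  induction k with
  | zero =>
    intro x hx hxt hd
    choose q hq using hd
    refine absurd ⟨fun i => 8 * q i, mem_leech.2 ⟨0, fun i => ⟨4 * q i, by ring⟩, ⟨∑ i, q i, ?_⟩, ?_⟩, ?_⟩ hxt
    · rw [Finset.mul_sum]; simp
    · convert Cfsg.golayCode.zero_mem
      funext i
      rw [hword, show (8 * q i - 0) / 2 = 4 * q i by omega]
      push_cast
      simp [show (4 : ZMod 2) = 0 from rfl]
    · funext i
      simp only [Pi.smul_apply, smul_eq_mul, hq i]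
      norm_num
      ring
  | succ k ih =>
    intro x hx hxt hd
    by_cases hall : ∀ v ∈ gBasis, restr v.2 x ∈ leechLattice
    · rcases fixed_class (hle hx) hall with h | ⟨w, hw, he⟩
      · exact absurd h hxt
      · rw [show T8 = x - (2 : ℤ) • w by rw [← he]; abel]
        exact M.sub_mem hx (h2 w hw)
    · push Not at hall
      obtain ⟨v, hv, hv'⟩ := hall
      have hd' : (2 : ℤ) • restr v.2 x ∈ M := by
        rw [← sub_epsMap]
        exact M.sub_mem hx (hinv (epsAut _ (gBasis_inCode v hv)) ⟨x, hle hx⟩ hx)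
      refine ih _ hd' (fun ⟨w, hw, he⟩ => hv' ?_) fun i => ?_
      · rwa [smul_right_injective _ (two_ne_zero : (2 : ℤ) ≠ 0) he]
      · simp only [Pi.smul_apply, smul_eq_mul, restr]
        split_ifs
        · refine dvd_trans (pow_dvd_pow _ (show 4 - k ≤ 4 - (k + 1) + 1 by omega)) ?_
          rw [pow_succ, mul_comm]
          exact mul_dvd_mul_left 2 (hd i)
        · simp

theorem eq_leech_of_T8 {M : AddSubgroup (GolayPt → ℤ)} (h2 : ∀ v ∈ leechLattice, (2 : ℤ) • v ∈ M)
    (hle : M ≤ leechLattice) (hinv : Invariant M) (hT : T8 ∈ M) : M = leechLattice := by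
  have hok := chain_ok
  rw [Bool.and_eq_true] at hok
  obtain ⟨hok1, hok2'⟩ := hok
  have hchain : ∀ j, j < 24 → chainVec j ∈ M := by
    intro j
    induction j using Nat.strong_induction_on with
    | _ j ih =>
      intro hj
      have hj2 := List.all_eq_true.1 hok2' j (List.mem_range.2 hj)
      rw [Bool.or_eq_true, Bool.and_eq_true] at hj2
      rcases hj2 with h0 | ⟨hlt, heq'⟩
      · rw [Nat.beq_eq] at h0
        subst h0
        rwa [show chainVec 0 = T8 from funext fun q => beq_iff_eq.1 (List.all_eq_true.1 hok1 q (mem_allPts q))]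
      · rw [Nat.blt_eq] at hlt
        rw [show chainVec j = genMap (chain.getD j (0, 0, [])).2.1 (chainVec (chain.getD j (0, 0, [])).1) from
          funext fun q => (beq_iff_eq.1 (List.all_eq_true.1 heq' q (mem_allPts q))).symm]
        have hp := ih _ hlt (by omega)
        exact genMap_mem hinv _ (hle hp) hp
  have hcomb : ∀ mask, combVec mask ∈ M := by
    intro mask
    have : combVec mask = ∑ j ∈ Finset.range 24, if mask.testBit j then chainVec j else 0 := by
      funext q
      rw [Finset.sum_apply, combVec]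
      simp only [apply_ite (fun f : GolayPt → ℤ => f q), Pi.zero_apply]
      rfl
    rw [this]
    refine M.sum_mem fun j hj => ?_
    split_ifs
    · exact hchain j (Finset.mem_range.1 hj)
    · exact M.zero_mem
  refine le_antisymm hle (leech_le fun g hg => ?_)
  obtain ⟨i, hi, rfl⟩ := List.getElem_of_mem hg
  obtain ⟨hi', hpair⟩ := all_zip (l := genList) (m := combMasks) (f := combCheck) comb_ok i hi
  unfold combCheck at hpair
  obtain ⟨h1', h2'⟩ := (Bool.and_eq_true _ _).mp hpair
  have h1 : ∀ q ∈ allPts, (genList[i] q - combVec combMasks[i] q) % 2 = 0 := fun q hq =>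
    beq_iff_eq.1 (List.all_eq_true.1 h1' q hq)
  have : genList[i] = combVec combMasks[i] + (2 : ℤ) • (fun q => (genList[i] q - combVec combMasks[i] q) / 2) := by
    funext q
    have := h1 q (mem_allPts q)
    simp only [Pi.add_apply, Pi.smul_apply, smul_eq_mul]
    omega
  exact (congrArg (· ∈ M) this).mpr (M.add_mem (hcomb _) (h2 _ (mem_of_inLB h2')))

theorem irreducible {M : AddSubgroup (GolayPt → ℤ)} (h2 : ∀ v ∈ leechLattice, (2 : ℤ) • v ∈ M)
    (hle : M ≤ leechLattice) (hinv : Invariant M) : (∀ x ∈ M, IsTwo x) ∨ M = leechLattice := by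
  by_cases h : ∀ x ∈ M, IsTwo x
  · exact Or.inl h
  · push Not at h
    obtain ⟨x, hx, hxt⟩ := h
    exact Or.inr (eq_leech_of_T8 h2 hle hinv (T8_mem_of h2 hle hinv hx hxt))

/-! ### The kernel -/

theorem gen_props : genList.all (fun g => decide (sqNorm g = 32) && !decide (dotInt oddVec g = 0)) = true := by
  decide +kernel

theorem kernel_central (g : ↥Co0) (hg : ∀ v : ↥leechLattice, ∃ w : ↥leechLattice,
    ((g • v : ↥leechLattice) : GolayPt → ℤ) - (v : GolayPt → ℤ) = 2 • (w : GolayPt → ℤ)) :
    g ∈ Subgroup.center ↥Co0 := by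
  have hadd : ∀ u v : ↥leechLattice, g • (u + v) = g • u + g • v := g.2.1
  have hnorm : ∀ v : ↥leechLattice, sqNorm ((g • v : ↥leechLattice) : GolayPt → ℤ) = sqNorm (v : GolayPt → ℤ) :=
    g.2.2
  have hpm : ∀ v : ↥leechLattice, sqNorm (v : GolayPt → ℤ) = 32 → g • v = v ∨ g • v = -v := by
    intro v hv
    have e4 : ip v v = 4 := by have := eight_ip_self v; omega
    have e4' : ip (g • v) (g • v) = 4 := by have := eight_ip_self (g • v); rw [hnorm] at this; omega
    obtain ⟨w, hw⟩ := hg v
    have hc : LatticeMod2.Cong v (g • v) := ⟨-w, Subtype.ext (by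
      rw [smul_neg, AddSubgroup.coe_sub, AddSubgroup.coe_neg, AddSubgroup.coe_nsmul, ← hw]; abel)⟩
    rcases LatticeMod2.cong_short rootless_ip (by omega) (by omega) hc with h | h | h
    · exact Or.inl h
    · exact Or.inr h
    · omega
  have hdot : ∀ u v : ↥leechLattice, dotInt ((g • u : ↥leechLattice) : GolayPt → ℤ) (g • v : ↥leechLattice)
      = dotInt (u : GolayPt → ℤ) v := by
    intro u v
    have h := hnorm (u + v)
    rw [hadd, AddSubgroup.coe_add, AddSubgroup.coe_add, Leech.norm_add, Leech.norm_add, hnorm, hnorm] at h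
    omega
  have hox : sqNorm oddVec = 32 := by decide +kernel
  obtain ⟨ε, hε, hεo⟩ : ∃ ε : ℤ, (ε = 1 ∨ ε = -1) ∧
      ((g • ⟨oddVec, oddVec_mem⟩ : ↥leechLattice) : GolayPt → ℤ) = ε • oddVec := by
    rcases hpm ⟨oddVec, oddVec_mem⟩ hox with h | h
    · exact ⟨1, Or.inl rfl, by rw [h, one_smul]⟩
    · exact ⟨-1, Or.inr rfl, by rw [h, neg_one_smul]; rfl⟩
  let S : AddSubgroup (GolayPt → ℤ) :=
    { carrier := {x | ∃ hx : x ∈ leechLattice, ((g • ⟨x, hx⟩ : ↥leechLattice) : GolayPt → ℤ) = ε • x}
      zero_mem' := ⟨leechLattice.zero_mem, by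
        have h := hadd 0 0
        rw [add_zero, left_eq_add] at h
        show ((g • (0 : ↥leechLattice) : ↥leechLattice) : GolayPt → ℤ) = _
        rw [h, smul_zero]; rfl⟩
      add_mem' := by
        rintro x y ⟨hx, ex⟩ ⟨hy, ey⟩
        refine ⟨leechLattice.add_mem hx hy, ?_⟩
        show ((g • (⟨x, hx⟩ + ⟨y, hy⟩ : ↥leechLattice) : ↥leechLattice) : GolayPt → ℤ) = _
        rw [hadd, AddSubgroup.coe_add, ex, ey, smul_add]
      neg_mem' := by
        rintro x ⟨hx, ex⟩
        refine ⟨leechLattice.neg_mem hx, ?_⟩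
        have h0 := hadd 0 0
        rw [add_zero, left_eq_add] at h0
        have h := hadd (-⟨x, hx⟩) ⟨x, hx⟩
        rw [neg_add_cancel, h0] at h
        show ((g • (-⟨x, hx⟩ : ↥leechLattice) : ↥leechLattice) : GolayPt → ℤ) = _
        rw [eq_neg_of_add_eq_zero_left h.symm, AddSubgroup.coe_neg, ex, smul_neg] }
  have hall : ∀ x : ↥leechLattice, ((g • x : ↥leechLattice) : GolayPt → ℤ) = ε • (x : GolayPt → ℤ) := by
    intro x
    refine ((leech_le (M := S) fun y hy => ?_) x.2).2
    have hp := List.all_eq_true.1 gen_props y hy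
    simp only [Bool.and_eq_true, Bool.not_eq_true', decide_eq_true_eq, decide_eq_false_iff_not] at hp
    refine ⟨mem_of_genList hy, ?_⟩
    have hd := hdot ⟨oddVec, oddVec_mem⟩ ⟨y, mem_of_genList hy⟩
    rw [hεo] at hd
    rcases hpm ⟨y, mem_of_genList hy⟩ hp.1 with h | h <;> rw [h] at hd ⊢ <;> rcases hε with rfl | rfl
    · simp
    · exfalso; apply hp.2
      simp only [dotInt, Pi.smul_apply, smul_eq_mul, neg_mul, one_mul, Finset.sum_neg_distrib] at hd ⊢
      omega
    · exfalso; apply hp.2
      simp only [dotInt, one_smul, AddSubgroup.coe_neg, Pi.neg_apply, mul_neg, Finset.sum_neg_distrib] at hd ⊢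
      omega
    · simp
  rw [Subgroup.mem_center_iff]
  intro k
  refine Subtype.ext (Equiv.ext fun v => Subtype.ext ?_)
  show ((k • (g • v) : ↥leechLattice) : GolayPt → ℤ) = ((g • (k • v) : ↥leechLattice) : GolayPt → ℤ)
  have hgv : g • v = ε • v := Subtype.ext (by rw [hall v, AddSubgroup.coe_zsmul])
  rw [hall (k • v), hgv]
  rcases hε with rfl | rfl
  · simp
  · have hk : ∀ u v : ↥leechLattice, k • (u + v) = k • u + k • v := k.2.1
    have h0 := hk 0 0
    rw [add_zero, left_eq_add] at h0
    have h := hk (-v) v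
    rw [neg_add_cancel, h0] at h
    rw [neg_one_smul, neg_one_smul, eq_neg_of_add_eq_zero_left h.symm]
    rfl

end Cfsg.Agent.LeechMod
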