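/-
Quadratic forms on the Leech lattice modulo two invariant under its automorphism group.
-/
import Cfsg.Agent.Lib.LeechMod.Irreducible
set_option autoImplicit false

namespace Cfsg.Agent.LeechMod

open Cfsg Cfsg.Agent.Golay Cfsg.Agent.Leech

/-! ### Classes of short vectors -/

theorem short_class {v w : GolayPt → ℤ} (hv : v ∈ leechLattice) (hw : w ∈ leechLattice)
    (hvn : sqNorm v ≤ 64) (hwn : sqNorm w ≤ 64) (hc : ∃ z ∈ leechLattice, v - w = 2 • z) :
    w = v ∨ w = -v ∨ (sqNorm v = 64 ∧ sqNorm w = 64 ∧ dotInt v w = 0) := by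
  obtain ⟨z, hz, he⟩ := hc
  have ev := eight_ip_self ⟨v, hv⟩
  have ew := eight_ip_self ⟨w, hw⟩
  have evw := eight_ip ⟨v, hv⟩ ⟨w, hw⟩
  dsimp only at ev ew evw
  rcases LatticeMod2.cong_short rootless_ip (x := (⟨v, hv⟩ : ↥leechLattice)) (y := ⟨w, hw⟩)
    (by omega) (by omega) ⟨⟨z, hz⟩, Subtype.ext (by simpa using he)⟩ with h | h | ⟨h1, h2, h3⟩
  · exact Or.inl (congrArg Subtype.val h)
  · exact Or.inr (Or.inl (congrArg Subtype.val h))
  · exact Or.inr (Or.inr ⟨by omega, by omega, by omega⟩)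

/-! ### Invariant linear forms -/

theorem pair_ok : (List.range 23).all (fun i =>
    let r := pairTab.getD i (0, 0, 0)
    let p := pt (Fin.ofNat 24 i)
    inCode r.2.1 && inCode r.2.2 && inLB (octVec r.1) &&
      allPts.all (fun q => ((2 : ℤ) • restr r.2.1 (octVec r.1)) q == (e4 none + e4 p) q) &&
      allPts.all (fun q => ((2 : ℤ) • restr r.2.2 (e4 none + e4 p)) q == ((2 : ℤ) • e4 p) q)) = true := by
  decide +kernel

theorem oct_ok : octBase.all (fun b => inCode b && allPts.all (fun q =>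
    octVec b q == ((2 : ℤ) • restr b oddVec) q + if b.testBit 23 then T8 q else 0)) = true := by
  decide +kernel

/-- The twice restricted vectors generate every even generator. -/
theorem evenGen_mem {M : AddSubgroup (GolayPt → ℤ)}
    (h : ∀ b, inCode b = true → ∀ x ∈ leechLattice, (2 : ℤ) • restr b x ∈ M) :
    ∀ g ∈ genList, g = oddVec ∨ (g ∈ M ∧ 2 ∣ g none) := by
  have hf : ∀ i, i < 23 → e4 none + e4 (pt (Fin.ofNat 24 i)) ∈ M ∧
      e4 none - e4 (pt (Fin.ofNat 24 i)) ∈ M := by
    intro i hi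
    have hk := List.all_eq_true.1 pair_ok i (List.mem_range.2 hi)
    simp only [Bool.and_eq_true] at hk
    obtain ⟨⟨⟨⟨hc, he⟩, ha⟩, h1⟩, h2⟩ := hk
    have hp : e4 none + e4 (pt (Fin.ofNat 24 i)) ∈ M := by
      have e : (2 : ℤ) • restr (pairTab.getD i (0, 0, 0)).2.1 (octVec (pairTab.getD i (0, 0, 0)).1) =
          e4 none + e4 (pt (Fin.ofNat 24 i)) :=
        funext fun q => beq_iff_eq.1 (List.all_eq_true.1 h1 q (mem_allPts q))
      rw [← e]
      exact h _ hc _ (mem_of_inLB ha)
    refine ⟨hp, ?_⟩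
    have hpL : e4 none + e4 (pt (Fin.ofNat 24 i)) ∈ leechLattice :=
      mem_of_genList (List.mem_append_left _ (List.mem_flatMap.2 ⟨i, List.mem_range.2 hi, by simp⟩))
    have e : (2 : ℤ) • restr (pairTab.getD i (0, 0, 0)).2.2 (e4 none + e4 (pt (Fin.ofNat 24 i))) =
        (2 : ℤ) • e4 (pt (Fin.ofNat 24 i)) :=
      funext fun q => beq_iff_eq.1 (List.all_eq_true.1 h2 q (mem_allPts q))
    have := M.sub_mem hp (h _ he _ hpL)
    rw [e] at this
    convert this using 1
    module
  have hT : T8 ∈ M := by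
    have := M.add_mem (hf 0 (by norm_num)).1 (hf 0 (by norm_num)).2
    convert this using 1
    funext q
    simp only [T8, e4, Pi.add_apply, Pi.sub_apply]
    split_ifs <;> rfl
  intro g hg
  rcases List.mem_append.1 hg with hg | hg
  · right
    obtain ⟨i, hi, hg⟩ := List.mem_flatMap.1 hg
    rw [List.mem_range] at hi
    simp only [List.mem_cons, List.not_mem_nil, or_false] at hg
    rcases hg with rfl | rfl
    · exact ⟨(hf i hi).1, by simp only [Pi.add_apply, e4]; split_ifs <;> norm_num⟩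
    · exact ⟨(hf i hi).2, by simp only [Pi.sub_apply, e4]; split_ifs <;> norm_num⟩
  · rcases List.mem_cons.1 hg with rfl | hg
    · exact Or.inl rfl
    right
    obtain ⟨b, hb, rfl⟩ := List.mem_map.1 hg
    have hk := List.all_eq_true.1 oct_ok b hb
    rw [Bool.and_eq_true] at hk
    refine ⟨?_, by simp only [octVec]; split_ifs <;> norm_num⟩
    have e : octVec b = (2 : ℤ) • restr b oddVec + if b.testBit 23 then T8 else 0 := by
      funext q
      rw [beq_iff_eq.1 (List.all_eq_true.1 hk.2 q (mem_allPts q))]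
      cases b.testBit 23 <;> simp
    rw [e]
    refine M.add_mem (h b hk.1 _ oddVec_mem) ?_
    split_ifs
    exacts [hT, M.zero_mem]

/-- The parity of a lattice vector. -/
def par (v : ↥leechLattice) : ZMod 2 := (((v : GolayPt → ℤ) none : ℤ) : ZMod 2)

theorem oddVec_par : par ⟨oddVec, oddVec_mem⟩ = 1 := by
  show ((oddVec none : ℤ) : ZMod 2) = 1
  decide

theorem zmod2_two : (2 : ZMod 2) = 0 := rfl

/-- A linear form invariant under the sign changes is a multiple of the parity. -/
theorem linear_eq (L : ↥leechLattice →+ ZMod 2)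
    (hinv : ∀ b (hb : inCode b = true) (v : ↥leechLattice), L (epsAut b hb • v) = L v)
    (v : ↥leechLattice) : L v = L ⟨oddVec, oddVec_mem⟩ * par v := by
  let M : AddSubgroup (GolayPt → ℤ) := L.ker.map leechLattice.subtype
  have hM : ∀ g ∈ genList, g = oddVec ∨ (g ∈ M ∧ 2 ∣ g none) := by
    refine evenGen_mem fun b hb x hx => ?_
    refine ⟨⟨x, hx⟩ - epsAut b hb • ⟨x, hx⟩, ?_, ?_⟩
    · rw [SetLike.mem_coe, AddMonoidHom.mem_ker, map_sub, hinv, sub_self]
    · rw [← sub_epsMap]
      rfl
  let N : AddSubgroup (GolayPt → ℤ) :=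
    (L - (AddMonoidHom.mulLeft (L ⟨oddVec, oddVec_mem⟩)).comp
      (AddMonoidHom.mk' par fun a b => by simp [par])).ker.map leechLattice.subtype
  obtain ⟨w, hw, he⟩ := (leech_le (M := N) fun g hg => by
    refine ⟨⟨g, mem_of_genList hg⟩, ?_, rfl⟩
    rw [SetLike.mem_coe, AddMonoidHom.mem_ker]
    show L _ - L _ * par _ = 0
    rcases hM g hg with rfl | ⟨⟨u, hu, rfl⟩, hpar⟩
    · rw [oddVec_par, mul_one]; exact sub_self _
    · have hu0 : L u = 0 := hu
      have : par ⟨(leechLattice.subtype u : GolayPt → ℤ), mem_of_genList hg⟩ = 0 :=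
        (ZMod.intCast_zmod_eq_zero_iff_dvd _ 2).2 hpar
      rw [this, mul_zero, sub_zero]
      exact hu0) v.2
  obtain rfl : w = v := Subtype.ext he
  exact sub_eq_zero.1 hw

/-! ### Invariant quadratic forms -/

/-- The squared length over sixteen, modulo two. -/
def q0 (v : ↥leechLattice) : ZMod 2 := ((sqNorm (v : GolayPt → ℤ) / 16 : ℤ) : ZMod 2)

theorem q0_add (u v : ↥leechLattice) : q0 (u + v) = q0 u + q0 v + ((ip u v : ℤ) : ZMod 2) := by
  simp only [q0, ← Int.cast_add]
  congr 1
  have := norm_add (u : GolayPt → ℤ) v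
  have := eight_ip u v
  have := sixteen_dvd_sqNorm u.2
  have := sixteen_dvd_sqNorm v.2
  simp only [AddSubgroup.coe_add] at *
  omega

theorem ip_add_left (u v w : ↥leechLattice) : ip (u + v) w = ip u w + ip v w :=
  rootless_ip.add u v w

theorem ip_T8 (v : ↥leechLattice) : ((ip ⟨T8, T8_mem⟩ v : ℤ) : ZMod 2) = par v := by
  have h := eight_ip ⟨T8, T8_mem⟩ v
  have e : dotInt T8 (v : GolayPt → ℤ) = 8 * (v : GolayPt → ℤ) none := by
    simp [dotInt, T8, ite_mul]
  dsimp only at h
  rw [e] at h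
  rw [par, show ip ⟨T8, T8_mem⟩ v = (v : GolayPt → ℤ) none by omega]

/-- An invariant quadratic form. -/
structure IsInvForm (Q : ↥leechLattice → ZMod 2) : Prop where
  quad : ∀ u v w, Q (u + v + w) + Q u + Q v + Q w = Q (u + v) + Q (u + w) + Q (v + w)
  inv : ∀ (g : ↥Co0) (v : ↥leechLattice), Q (g • v) = Q v

/-- The polar form. -/
def polar (Q : ↥leechLattice → ZMod 2) (u v : ↥leechLattice) : ZMod 2 := Q (u + v) + Q u + Q v

theorem IsInvForm.polar_add {Q : ↥leechLattice → ZMod 2} (h : IsInvForm Q) (u v w : ↥leechLattice) :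
    polar Q (u + v) w = polar Q u w + polar Q v w := by
  have := h.quad u v w
  simp only [polar]
  linear_combination this + (Q (u + v) - Q u - Q v - Q w) * zmod2_two

theorem IsInvForm.polar_smul {Q : ↥leechLattice → ZMod 2} (h : IsInvForm Q) (g : ↥Co0) (u v : ↥leechLattice) :
    polar Q (g • u) (g • v) = polar Q u v := by
  have hadd : g • (u + v) = g • u + g • v := g.2.1 u v
  simp only [polar, ← hadd, h.inv]

theorem IsInvForm.polar_shift {Q : ↥leechLattice → ZMod 2} (h : IsInvForm Q) (u v w : ↥leechLattice) :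
    polar Q (u + (w + w)) v = polar Q u v := by
  rw [h.polar_add, h.polar_add w w]
  linear_combination (polar Q w v) * zmod2_two

theorem eps_T8 (b : ℕ) (hb : inCode b = true) :
    ∃ w, epsAut b hb • (⟨T8, T8_mem⟩ : ↥leechLattice) = ⟨T8, T8_mem⟩ + (w + w) := by
  cases hbit : b.testBit (idx none)
  · refine ⟨0, Subtype.ext (funext fun i => ?_)⟩
    show epsMap b T8 i = T8 i + ((0 : GolayPt → ℤ) i + (0 : GolayPt → ℤ) i)
    rcases eq_or_ne i none with rfl | hi
    · simp [epsMap, hbit]
    · simp [epsMap, T8, hi]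
  · refine ⟨-⟨T8, T8_mem⟩, Subtype.ext (funext fun i => ?_)⟩
    show epsMap b T8 i = T8 i + (-T8 i + -T8 i)
    rcases eq_or_ne i none with rfl | hi
    · simp [epsMap, hbit]
    · simp [epsMap, T8, hi]

theorem xi_par_ok : inLB (chainVec 5) = true ∧ chainVec 5 none % 2 = 0 ∧ xiMap (chainVec 5) none % 2 = 1 := by
  decide +kernel

/-- **Every invariant quadratic form is a multiple of the squared length over sixteen.** -/
theorem form_eq {Q : ↥leechLattice → ZMod 2} (h : IsInvForm Q) : ∃ c : ZMod 2, ∀ v, Q v = c * q0 v := by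
  -- the form is determined by the polar of the fixed class
  let t : ↥leechLattice := ⟨T8, T8_mem⟩
  have hsymm : ∀ u v, polar Q u v = polar Q v u := fun u v => by
    simp only [polar, add_comm u v]; ring
  let L : ↥leechLattice →+ ZMod 2 := AddMonoidHom.mk' (polar Q t) fun a b => by
    rw [hsymm t, h.polar_add, hsymm a, hsymm b]
  have hL : ∀ v, polar Q t v = L ⟨oddVec, oddVec_mem⟩ * par v := fun v => by
    refine linear_eq L (fun b hb u => ?_) v
    obtain ⟨w, hw⟩ := eps_T8 b hb
    show polar Q t (epsAut b hb • u) = polar Q t u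
    rw [← h.polar_smul (epsAut b hb) t u, hw, h.polar_shift]
  set c := L ⟨oddVec, oddVec_mem⟩
  refine ⟨c, ?_⟩
  let Q' : ↥leechLattice → ZMod 2 := fun v => Q v + c * q0 v
  have h' : IsInvForm Q' := by
    refine ⟨fun u v w => ?_, fun g v => ?_⟩
    · have := h.quad u v w
      simp only [Q', q0_add, ip_add_left]
      push_cast
      linear_combination this
    · simp only [Q', h.inv, q0]
      rw [show sqNorm ((g • v : ↥leechLattice) : GolayPt → ℤ) = sqNorm (v : GolayPt → ℤ) from g.2.2 v]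
  have hT : ∀ v, polar Q' t v = 0 := by
    intro v
    have := hL v
    simp only [polar] at this
    simp only [polar, Q', q0_add, ip_T8, t]
    linear_combination this + (c * q0 t + c * q0 v + c * par v) * zmod2_two
  -- its radical is invariant and contains the fixed class
  let R : AddSubgroup ↥leechLattice :=
    { carrier := {u | ∀ v, polar Q' u v = 0}
      zero_mem' := fun v => by
        have h0 := h'.polar_add 0 0 v
        rw [add_zero, left_eq_add] at h0
        exact h0
      add_mem' := fun {a b} ha hb v => by rw [h'.polar_add, ha v, hb v, add_zero]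
      neg_mem' := fun {a} ha v => by
        have h0 := h'.polar_shift (-a) v a
        rwa [show -a + (a + a) = a by abel, ha v, eq_comm] at h0 }
  have hR : R.map leechLattice.subtype = leechLattice := by
    refine eq_leech_of_T8 (fun x hx => ⟨⟨x, hx⟩ + ⟨x, hx⟩, fun v => ?_, (two_zsmul x).symm⟩)
      (by rintro _ ⟨u, -, rfl⟩; exact u.2) ?_ ⟨t, hT, rfl⟩
    · rw [h'.polar_add]
      linear_combination (polar Q' ⟨x, hx⟩ v) * zmod2_two
    · rintro g u ⟨w, hw, hwu⟩
      obtain rfl : w = u := Subtype.ext hwu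
      refine ⟨g • w, fun v => ?_, rfl⟩
      rw [← smul_inv_smul g v, h'.polar_smul]
      exact hw _
  have hlin : ∀ u v, Q' (u + v) = Q' u + Q' v := by
    intro u v
    obtain ⟨w, hw, he⟩ : (u : GolayPt → ℤ) ∈ R.map leechLattice.subtype := by rw [hR]; exact u.2
    obtain rfl : w = u := Subtype.ext he
    have := hw v
    simp only [polar] at this
    linear_combination this - (Q' w + Q' v) * zmod2_two
  -- so it is linear, and vanishes
  let L' : ↥leechLattice →+ ZMod 2 := AddMonoidHom.mk' Q' hlin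
  have hQ' := linear_eq L' (fun b hb u => h'.inv _ u)
  obtain ⟨hx, h0, h1⟩ := xi_par_ok
  have hc' : L' ⟨oddVec, oddVec_mem⟩ = 0 := by
    have e := h'.inv xiAut ⟨chainVec 5, mem_of_inLB hx⟩
    have e1 := hQ' (xiAut • ⟨chainVec 5, mem_of_inLB hx⟩)
    have e0 := hQ' ⟨chainVec 5, mem_of_inLB hx⟩
    rw [show par (xiAut • ⟨chainVec 5, mem_of_inLB hx⟩) = 1 from by
      show ((xiMap (chainVec 5) none : ℤ) : ZMod 2) = 1
      rw [← ZMod.intCast_mod]; rw [show ((2 : ℕ) : ℤ) = 2 from rfl, h1]; rfl, mul_one] at e1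
    rw [show par ⟨chainVec 5, mem_of_inLB hx⟩ = 0 from
      (ZMod.intCast_zmod_eq_zero_iff_dvd _ 2).2 (Int.dvd_of_emod_eq_zero h0), mul_zero] at e0
    rw [← e1, ← e0]
    exact e
  intro v
  have := hQ' v
  rw [hc', zero_mul] at this
  simp only [L', AddMonoidHom.mk'_apply, Q'] at this
  linear_combination this - (c * q0 v) * zmod2_two

/-! ### A singular half -/

/-- The vectors with all coordinates congruent to the same even number modulo four and sum divisible by eight. -/
def halfSub : AddSubgroup (GolayPt → ℤ) where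
  carrier := {x | ∃ c : ℤ, (∀ i, (4 : ℤ) ∣ x i - 2 * c) ∧ (8 : ℤ) ∣ ∑ i, x i}
  zero_mem' := ⟨0, fun i => by simp, by simp⟩
  add_mem' := by
    rintro x y ⟨a, ha, ha8⟩ ⟨b, hb, hb8⟩
    refine ⟨a + b, fun i => ?_, ?_⟩
    · have := ha i; have := hb i; simp only [Pi.add_apply]; omega
    · simp only [Pi.add_apply, Finset.sum_add_distrib]; exact dvd_add ha8 hb8
  neg_mem' := by
    rintro x ⟨a, ha, ha8⟩
    refine ⟨-a, fun i => ?_, ?_⟩
    · have := ha i; simp only [Pi.neg_apply]; omega
    · simp only [Pi.neg_apply, Finset.sum_neg_distrib]; exact (dvd_neg).2 ha8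

theorem halfSub_le : halfSub ≤ leechLattice := by
  rintro x ⟨c, hc, h8⟩
  refine mem_leech.2 ⟨0, fun i => by have := hc i; omega, by simpa using h8, ?_⟩
  have e : hword 0 x = (c : ZMod 2) • (1 : GolayPt → ZMod 2) := by
    funext i
    simp only [hword, Pi.smul_apply, Pi.one_apply, smul_eq_mul, mul_one]
    rw [ZMod.intCast_eq_intCast_iff']
    have := hc i
    push_cast
    omega
  rw [e]
  exact Cfsg.golayCode.smul_mem _ one_mem_code

theorem two_mem_halfSub {v : GolayPt → ℤ} (hv : v ∈ leechLattice) : (2 : ℤ) • v ∈ halfSub := by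
  obtain ⟨m, h1, h2, -⟩ := mem_leech.1 hv
  refine ⟨m, fun i => ?_, ?_⟩
  · have := h1 i; simp only [Pi.smul_apply, smul_eq_mul]; omega
  · simp only [Pi.smul_apply, smul_eq_mul, ← Finset.mul_sum]; omega

theorem norm_halfSub {x : GolayPt → ℤ} (hx : x ∈ halfSub) : (32 : ℤ) ∣ sqNorm x := by
  obtain ⟨c, hc, h8⟩ := hx
  choose k hk using hc
  have e : sqNorm x = 96 * c ^ 2 + 16 * c * ∑ i, k i + 16 * ∑ i, k i ^ 2 := by
    rw [sqNorm, Finset.mul_sum, Finset.mul_sum,
      show (96 : ℤ) * c ^ 2 = ∑ _i : GolayPt, 4 * c ^ 2 by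
        rw [Finset.sum_const, show (Finset.univ : Finset GolayPt).card = 24 from rfl, nsmul_eq_mul]
        push_cast; ring, ← Finset.sum_add_distrib, ← Finset.sum_add_distrib]
    refine Finset.sum_congr rfl fun i _ => ?_
    rw [show x i = 2 * c + 4 * k i by have := hk i; omega]
    ring
  have hs : ∑ i, x i = 48 * c + 4 * ∑ i, k i := by
    rw [Finset.mul_sum, show (48 : ℤ) * c = ∑ _i : GolayPt, 2 * c by
        rw [Finset.sum_const, show (Finset.univ : Finset GolayPt).card = 24 from rfl, nsmul_eq_mul]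
        push_cast; ring, ← Finset.sum_add_distrib]
    exact Finset.sum_congr rfl fun i _ => by have := hk i; omega
  obtain ⟨s, hs2⟩ : (2 : ℤ) ∣ ∑ i, k i := by omega
  obtain ⟨r, hr⟩ : (2 : ℤ) ∣ ∑ i, k i ^ 2 := by
    have : (2 : ℤ) ∣ ∑ i, (k i ^ 2 - k i) := Finset.dvd_sum fun i _ => by
      rw [show k i ^ 2 - k i = (k i - 1) * k i by ring]
      rcases Int.even_or_odd' (k i) with ⟨q, h | h⟩ <;> rw [h]
      · exact Dvd.intro_left ((2 * q - 1) * q) (by ring)
      · exact Dvd.intro_left (q * (2 * q + 1)) (by ring)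
    rw [Finset.sum_sub_distrib] at this
    omega
  rw [e, hs2, hr]
  exact ⟨3 * c ^ 2 + c * s + r, by ring⟩

theorem index_halfSub : halfSub.index = 2 ^ 48 := by
  let f : (GolayPt → ℤ) →+ ZMod 2 × ({t : ZMod 23 // t ≠ 0} → ZMod 4) × ZMod 8 :=
    { toFun := fun x => ((x none : ZMod 2), fun t => ((x (some t.1) - x none : ℤ) : ZMod 4),
        ((∑ t, (x (some t) - x none) : ℤ) : ZMod 8))
      map_zero' := by ext <;> simp
      map_add' := fun x y => by
        ext
        · simp
        · simp; ring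
        · simp [Finset.sum_add_distrib, Finset.sum_sub_distrib]; ring }
  have hsum : ∀ x : GolayPt → ℤ, ∑ i, x i = 24 * x none + ∑ t, (x (some t) - x none) := fun x => by
    rw [Fintype.sum_option, Finset.sum_sub_distrib, Finset.sum_const]
    simp; ring
  have hker : halfSub = f.ker := by
    ext x
    simp only [AddMonoidHom.mem_ker, f, AddMonoidHom.coe_mk, ZeroHom.coe_mk, Prod.ext_iff, Prod.fst_zero,
      Prod.snd_zero, funext_iff, Pi.zero_apply, ZMod.intCast_zmod_eq_zero_iff_dvd, Nat.cast_ofNat]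
    constructor
    · rintro ⟨c, hc, h8⟩
      refine ⟨by have := hc none; omega, fun t => by have := hc none; have := hc (some t.1); omega, ?_⟩
      rw [hsum] at h8
      omega
    · rintro ⟨h2, h4, h8⟩
      refine ⟨x none / 2, ?_, by rw [hsum]; omega⟩
      rintro (_ | t)
      · omega
      · rcases eq_or_ne t 0 with rfl | ht
        · rw [← Finset.add_sum_erase Finset.univ _ (Finset.mem_univ (0 : ZMod 23))] at h8
          have : (4 : ℤ) ∣ ∑ t ∈ Finset.univ.erase (0 : ZMod 23), (x (some t) - x none) :=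
            Finset.dvd_sum fun t ht => h4 ⟨t, (Finset.mem_erase.1 ht).1⟩
          omega
        · have := h4 ⟨t, ht⟩
          dsimp only at this
          omega
  have hsurj : Function.Surjective f := by
    rintro ⟨a, b, s⟩
    let d : ZMod 23 → ℤ := fun t => if h : t = 0 then
        (s.val : ℤ) - ∑ u : {u : ZMod 23 // u ≠ 0}, ((b u).val : ℤ) else ((b ⟨t, h⟩).val : ℤ)
    refine ⟨fun p => p.elim (a.val : ℤ) fun t => (a.val : ℤ) + d t, ?_⟩
    simp only [f, AddMonoidHom.coe_mk, ZeroHom.coe_mk, Option.elim, add_sub_cancel_left]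
    refine Prod.ext (by simp) (Prod.ext (funext fun t => by simp [d, t.2]) ?_)
    show ((∑ t, d t : ℤ) : ZMod 8) = s
    have : ∑ t, d t = (s.val : ℤ) := by
      rw [← Finset.add_sum_erase Finset.univ _ (Finset.mem_univ (0 : ZMod 23)),
        Finset.sum_subtype (p := fun u : ZMod 23 => u ≠ 0) _ (fun u => by simp)]
      have h0 : ∑ u : {u : ZMod 23 // u ≠ 0}, d u.1 = ∑ u : {u : ZMod 23 // u ≠ 0}, ((b u).val : ℤ) :=
        Finset.sum_congr rfl fun u _ => by simp [d, u.2]
      rw [h0]
      simp [d]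
    rw [this]
    simp
  rw [hker, AddSubgroup.index_ker, AddMonoidHom.range_eq_top.2 hsurj, AddSubgroup.card_top,
    Nat.card_prod, Nat.card_prod, Nat.card_fun, Nat.card_zmod, Nat.card_zmod, Nat.card_zmod,
    show Nat.card {t : ZMod 23 // t ≠ 0} = 22 by rw [Nat.card_eq_fintype_card]; rfl]
  norm_num

theorem index_halfSub_leech : (halfSub.addSubgroupOf leechLattice).index = 2 ^ 12 := by
  have h := AddSubgroup.relIndex_mul_index halfSub_le
  rw [index_halfSub, index_leech] at h
  exact Nat.eq_of_mul_eq_mul_right (Nat.two_pow_pos 36) (h.trans (by norm_num))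

end Cfsg.Agent.LeechMod
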